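import Groth.Agent.Fano.K745.StDef
import Groth.Agent.Fano.K123.ConA
import Groth.Agent.Fano.K423.ConE
import Groth.Agent.CurvesC.DegIso

/-!
# The universal family of maps from conics; data of stable families

Nodes V3, V4, V5 of the plan of S16939: `nonempty_univ`, `reg_of_datum`, `exists_datum_nhds`.
The other nodes which are used are hypotheses: the statements `K4bStmt`, `K5cStmt`, `K6Stmt`, `K7bStmt`, `D3Stmt`,
`V1Stmt`.
-/

set_option autoImplicit false

universe u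

open CategoryTheory CategoryTheory.Limits AlgebraicGeometry

namespace K414.StUniv

open K390.PnSec Groth.Agent.Fdesc.LocGen Groth.Agent.Dix.ProjProper K188.LineDef K745.ConDef K745.StDef
open W4swstmapratcurves

/-! ## The nodes which are used -/

/-- Node K4b. -/
def K4bStmt : Prop := ∀ {T C : Scheme.{u}} {c : Fin 5 → Γ(T, ⊤)} {f : C ⟶ T} {L : C.Modules} {x : Fin 3 → Γ(L, ⊤)}
  (_ : IsCon c f L x) {m : ℕ} (F : MvPolynomial (Fin 3) Γ(T, ⊤)), F.IsHomogeneous m → (Van f x F ↔ qf c ∣ F)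

/-- Node K5c. -/
def K5cStmt : Prop := ∀ (Ω : Type u) [Field Ω] [IsAlgClosed Ω] {C : Scheme.{u}} (q : C ⟶ Spec (CommRingCat.of Ω))
  (c : Fin 5 → Γ(Spec (CommRingCat.of Ω), ⊤)) {L : C.Modules} (x : Fin 3 → Γ(L, ⊤)) (_ : IsCon c q L x)
  [NeZero (2 : Ω)] (_ : letI : C.Over (Spec (CommRingCat.of Ω)) := ⟨q⟩; Curv2.AtWorstNodal Ω C),
  ∃ i, disc3 c i ≠ 0

/-- Node K6. -/
def K6Stmt (n : ℕ) : Prop := ∀ {T C : Scheme.{u}} {c : Fin 5 → Γ(T, ⊤)} {f : C ⟶ T} {L : C.Modules}
  {x : Fin 3 → Γ(L, ⊤)} (_ : IsCon c f L x) (φ : Fin (n + 1) → Fin 3 → Γ(T, ⊤)),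
  Gens (msec f x φ) ↔ ⨆ i, T.basicOpen (bpf c φ i) = ⊤

/-- Node K7b. -/
def K7bStmt (k : Type u) [Field k] (n : ℕ) : Prop := ∀ {T C : Scheme.{u}} (qT : T ⟶ Spec (CommRingCat.of k))
  {c : Fin 5 → Γ(T, ⊤)} {f : C ⟶ T} {L : C.Modules} {x : Fin 3 → Γ(L, ⊤)} (_ : IsCon c f L x)
  (φ : Fin (n + 1) → Fin 3 → Γ(T, ⊤)) (_ : Reg c φ) (μ : C ⟶ CohB1.ProjSpace n k)
  (_ : μ ≫ CohB1.ProjSpace.toSpec n k = f ≫ qT) (_ : GivenBy μ L (msec f x φ)),
  StMap.IsStableMapFam f (Fin.elim0 : Fin 0 → (T ⟶ C)) (fun i => i.elim0) μ 0 ∧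
    StMap.IsFibDeg f μ (O1 n k) 2

/-- Node D3. -/
def D3Stmt (k : Type u) [Field k] (n : ℕ) : Prop := ∀ {T C : Scheme.{u}} (qT : T ⟶ Spec (CommRingCat.of k)) (f : C ⟶ T)
  (μ : C ⟶ CohB1.ProjSpace n k) (_ : μ ≫ CohB1.ProjSpace.toSpec n k = f ≫ qT)
  (_ : StMap.IsStableMapFam f (Fin.elim0 : Fin 0 → (T ⟶ C)) (fun i => i.elim0) μ 0)
  (_ : StMap.IsFibDeg f μ (O1 n k) 2) (t : T),
  ∃ (W : T.Opens) (_ : t ∈ W) (c : Fin 5 → Γ(W, ⊤)) (φ : Fin (n + 1) → Fin 3 → Γ(W, ⊤))
    (L : (f ⁻¹ᵁ W).toScheme.Modules) (x : Fin 3 → Γ(L, ⊤)),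
    IsCon c (f ∣_ W) L x ∧ Reg c φ ∧ GivenBy ((f ⁻¹ᵁ W).ι ≫ μ) L (msec (f ∣_ W) x φ)

variable {k : Type u} [Field k] {n d : ℕ} {G : LefPen.Form n k d}

/-- Node V1. -/
def V1Stmt (G : LefPen.Form n k d) : Prop := ∀ (T : Over (Spec (CommRingCat.of k))) (u : T ⟶ VGk G.1),
  Reg (cAt u.left) (φAt u.left) ∧ qf (cAt u.left) ∣ subF (kmap T.hom) G.1 (φAt u.left)

/-! ## Stable maps to closed subschemes -/

section Stable

variable {C T Y P : Scheme.{u}}

/-- Stability of a map does not change under composition with a morphism which is injective on points. -/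
theorem isStableMap_comp_iff (Ω : Type u) [Field Ω] [IsAlgClosed Ω] {m : ℕ} (q : C ⟶ Spec (CommRingCat.of Ω)) (g : ℕ)
    (x : Fin m → C) (μ : C ⟶ Y) (ι : Y ⟶ P) (hι : Function.Injective ι.base) :
    StMap.IsStableMap Ω C q g x (μ ≫ ι) ↔ StMap.IsStableMap Ω C q g x μ := by
  have h1 : ∀ E : Set C, ((μ ≫ ι).base '' E).Subsingleton ↔ (μ.base '' E).Subsingleton := by
    intro E
    have h2 : (μ ≫ ι).base '' E = ι.base '' (μ.base '' E) := by
      rw [Set.image_image]
      rfl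
    rw [h2]
    exact ⟨fun h => Set.subsingleton_of_image hι _ h, fun h => h.image _⟩
  have h3 : (Set.range (μ ≫ ι).base).Subsingleton ↔ (Set.range μ.base).Subsingleton := by
    rw [← Set.image_univ, ← Set.image_univ]
    exact h1 _
  unfold StMap.IsStableMap
  rw [h3]
  exact and_congr_right fun _ => and_congr_left fun _ =>
    forall_congr' fun E => imp_congr_right fun _ => imp_congr_left (h1 E)

theorem isStableMapFam_comp_iff (f : C ⟶ T) {m : ℕ} (σ : Fin m → (T ⟶ C)) (hσ : ∀ i, σ i ≫ f = 𝟙 T) (μ : C ⟶ Y)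
    (ι : Y ⟶ P) (hι : Function.Injective ι.base) (g : ℕ) :
    StMap.IsStableMapFam f σ hσ (μ ≫ ι) g ↔ StMap.IsStableMapFam f σ hσ μ g := by
  unfold StMap.IsStableMapFam
  refine and_congr_right fun _ => and_congr_right fun _ => and_congr_right fun _ => ?_
  refine forall_congr' fun Ω => forall_congr' fun _ => forall_congr' fun _ => forall_congr' fun t =>
    forall_congr' fun Xt => forall_congr' fun i => forall_congr' fun q => forall_congr' fun hP => ?_
  rw [← Category.assoc]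
  exact isStableMap_comp_iff Ω q g _ (i ≫ μ) ι hι

/-- The degree of the fibres depends only on the isomorphism class of the pulled back module. -/
theorem isFibDeg_comp_iff (f : C ⟶ T) (μ : C ⟶ Y) (ι : Y ⟶ P) (L : P.Modules) (e : ℤ) :
    StMap.IsFibDeg f (μ ≫ ι) L e ↔ StMap.IsFibDeg f μ ((Scheme.Modules.pullback ι).obj L) e := by
  unfold StMap.IsFibDeg
  refine forall_congr' fun Ω => forall_congr' fun _ => forall_congr' fun _ => forall_congr' fun t =>
    forall_congr' fun Xt => forall_congr' fun i => forall_congr' fun q => forall_congr' fun hP => ?_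
  let _ : Xt.Over (Spec (CommRingCat.of Ω)) := ⟨q⟩
  have e1 : (Scheme.Modules.pullback (i ≫ μ ≫ ι)).obj L ≅
      (Scheme.Modules.pullback (i ≫ μ)).obj ((Scheme.Modules.pullback ι).obj L) :=
    (Scheme.Modules.pullbackCongr (Category.assoc i μ ι).symm).app L ≪≫
      (Scheme.Modules.pullbackComp (i ≫ μ) ι).symm.app L
  change Curv2.deg Ω Xt _ 1 = e ↔ Curv2.deg Ω Xt _ 1 = e
  rw [Groth.Agent.CurvesC.DegIso.deg_congr Ω e1 1]

end Stable

/-! ## Points -/

section Pts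

/-- The geometric point over a point of a scheme. -/
noncomputable def gpt {T : Scheme.{u}} (t : T) : Spec (CommRingCat.of (AlgebraicClosure (T.residueField t))) ⟶ T :=
  Spec.map (CommRingCat.ofHom (algebraMap (T.residueField t) (AlgebraicClosure (T.residueField t)))) ≫
    T.fromSpecResidueField t

theorem gpt_apply {T : Scheme.{u}} (t : T) (z : Spec (CommRingCat.of (AlgebraicClosure (T.residueField t)))) :
    (gpt t).base z = t := by
  have h := Scheme.range_fromSpecResidueField t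
  have h1 : (gpt t).base z ∈ Set.range (T.fromSpecResidueField t).base :=
    ⟨(Spec.map (CommRingCat.ofHom (algebraMap (T.residueField t) (AlgebraicClosure (T.residueField t))))).base z, rfl⟩
  rw [h] at h1
  exact h1

/-- A function which is not zero at a field valued point is invertible near its image. -/
theorem mem_basicOpen_of_ne_zero {T : Scheme.{u}} {Ω : Type u} [Field Ω] (τ : Spec (CommRingCat.of Ω) ⟶ T) (a : Γ(T, ⊤))
    (h : τ.appTop a ≠ 0) (z : Spec (CommRingCat.of Ω)) : τ.base z ∈ T.basicOpen a := by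
  have h1 : z ∈ (Spec (CommRingCat.of Ω)).basicOpen (τ.appTop a) := by
    have h2 : IsUnit ((Scheme.ΓSpecIso (CommRingCat.of Ω)).hom (τ.appTop a)) := by
      rw [isUnit_iff_ne_zero]
      intro h0
      apply h
      have h3 := congrArg (Scheme.ΓSpecIso (CommRingCat.of Ω)).inv h0
      rw [map_zero] at h3
      rwa [← CommRingCat.comp_apply, Iso.hom_inv_id] at h3
    have h4 : IsUnit (τ.appTop a) := by
      have h3 := h2.map (Scheme.ΓSpecIso (CommRingCat.of Ω)).inv.hom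
      have h5 : (Scheme.ΓSpecIso (CommRingCat.of Ω)).inv ((Scheme.ΓSpecIso (CommRingCat.of Ω)).hom (τ.appTop a)) =
          τ.appTop a := by
        rw [← CommRingCat.comp_apply, Iso.hom_inv_id]
        rfl
      rw [← h5]
      exact h3
    rw [Scheme.basicOpen_of_isUnit _ h4]
    trivial
  have h2 := Scheme.preimage_basicOpen_top τ a
  rw [← h2] at h1
  exact h1

theorem disc3_map {A B : Type u} [CommRing A] [CommRing B] (g : A →+* B) (c : Fin 5 → A) (i : Fin 3) :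
    disc3 (fun j => g (c j)) i = g (disc3 c i) := by
  fin_cases i <;> simp [disc3, map_ofNat]

end Pts

/-! ## Node V4 -/

theorem exists_lift_iff_dvd (hK4b : K4bStmt.{u}) {T C : Scheme.{u}} (q : T ⟶ Spec (CommRingCat.of k))
    {c : Fin 5 → Γ(T, ⊤)} {f : C ⟶ T} {L : C.Modules} {x : Fin 3 → Γ(L, ⊤)} (h : IsCon c f L x)
    (φ : Fin (n + 1) → Fin 3 → Γ(T, ⊤)) (μ : C ⟶ CohB1.ProjSpace n k)
    (hμ : μ ≫ CohB1.ProjSpace.toSpec n k = f ≫ q) (hs : GivenBy μ L (msec f x φ)) (G : LefPen.Form n k d) :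
    (∃ m : C ⟶ (LefPen.hypIdeal G).subscheme, m ≫ (LefPen.hypIdeal G).subschemeι = μ) ↔
      qf c ∣ subF (kmap q) G.1 φ :=
  K423.ConE.exists_lift_iff_dvd q h (fun F hF => hK4b h F hF) φ μ hμ hs G

/-- **Node V4**. -/
theorem reg_of_datum (hK4b : K4bStmt.{u}) (hK5c : K5cStmt.{u}) (hK6 : K6Stmt.{u} n) [CharZero k] (A : (Mst G).obj)
    (D : Datum A.obj) : Reg D.c D.φ ∧ qf D.c ∣ subF (kmap A.obj.base.hom) G.1 D.φ := by
  constructor
  · have h1 : ⨆ i, A.obj.base.left.basicOpen (bpf D.c D.φ i) = ⊤ := (hK6 D.isCon D.φ).1 D.givenBy.iSup_genLocus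
    unfold Reg
    rw [eq_top_iff]
    intro t _
    have ht : t ∈ ⨆ i, A.obj.base.left.basicOpen (bpf D.c D.φ i) := by rw [h1]; trivial
    obtain ⟨j, hj⟩ := TopologicalSpace.Opens.mem_iSup.1 ht
    have hP := IsPullback.of_hasPullback A.obj.f (gpt t)
    have hst := A.property.1.2.2.2 _ (gpt t) _ _ _ hP
    have hn := hst.1.2.2.2.1.1
    have hcon := K123.ConA.isCon_pullback D.isCon hP
    have hz : NeZero (2 : AlgebraicClosure (A.obj.base.left.residueField t)) := by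
      have : CharZero (AlgebraicClosure (A.obj.base.left.residueField t)) :=
        charZero_of_injective_ringHom (f := (Scheme.ΓSpecIso (CommRingCat.of
          (AlgebraicClosure (A.obj.base.left.residueField t)))).hom.hom.comp (kmap (gpt t ≫ A.obj.base.hom)))
          (RingHom.injective _)
      infer_instance
    obtain ⟨i, hi⟩ := hK5c _ _ _ _ hcon hn
    have hi' : t ∈ A.obj.base.left.basicOpen (disc3 D.c i) := by
      have h2 := mem_basicOpen_of_ne_zero (gpt t) (disc3 D.c i) (by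
        have h3 := disc3_map (gpt t).appTop.hom D.c i
        rw [← h3]
        exact hi) (IsLocalRing.closedPoint _)
      rwa [gpt_apply] at h2
    refine TopologicalSpace.Opens.mem_iSup.2 ⟨(i, j), ?_⟩
    unfold regPoly
    rw [Scheme.basicOpen_mul]
    exact ⟨hi', hj⟩
  · refine (exists_lift_iff_dvd hK4b A.obj.base.hom D.isCon D.φ _ ?_ D.givenBy G).1 ⟨A.obj.map, rfl⟩
    have h := A.obj.map_over
    rw [← h, Category.assoc]
    rfl

/-! ## Node V3 -/

theorem isHomogeneous_qf {A : Type u} [CommRing A] (c : Fin 5 → A) : (qf c).IsHomogeneous 2 := by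
  have h1 : ∀ (a : A) (i j : Fin 3), (MvPolynomial.C a * (MvPolynomial.X i * MvPolynomial.X j)).IsHomogeneous 2 :=
    fun a i j => by
      simpa using (MvPolynomial.isHomogeneous_C (Fin 3) a).mul
        ((MvPolynomial.isHomogeneous_X A i).mul (MvPolynomial.isHomogeneous_X A j))
  have h2 : ∀ (a : A) (i : Fin 3), (MvPolynomial.C a * MvPolynomial.X i ^ 2).IsHomogeneous 2 := fun a i => by
    simpa using (MvPolynomial.isHomogeneous_C (Fin 3) a).mul ((MvPolynomial.isHomogeneous_X A i).pow 2)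
  unfold qf
  refine (((((?_ : MvPolynomial.IsHomogeneous _ 2).add (h1 _ _ _)).add (h1 _ _ _)).add (h2 _ _)).add (h1 _ _ _)).add
    (h2 _ _)
  simpa using (MvPolynomial.isHomogeneous_X A (0 : Fin 3)).pow 2

/-- The plane conic with a given equation, over any base. -/
theorem exists_isCon {T : Scheme.{u}} (c : Fin 5 → Γ(T, ⊤)) :
    ∃ (C : Scheme.{u}) (f : C ⟶ T) (L : C.Modules) (x : Fin 3 → Γ(L, ⊤)), IsCon c f L x := by
  obtain ⟨C, ι, h⟩ := K123.ConA.exists_isZer (qf c) (isHomogeneous_qf c)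
  exact ⟨C, ι ≫ pr2 T, _, _, ι, rfl, GivenBy.refl (ι ≫ toZ 2 T), h⟩

/-- **Node V3**. -/
theorem nonempty_univ (hK4b : K4bStmt.{u}) (hK6 : K6Stmt.{u} n) (hK7b : K7bStmt k n) (G : LefPen.Form n k d)
    (hV1 : V1Stmt G) : Nonempty (Univ G) := by
  obtain ⟨hr, hd⟩ := hV1 (VGk G.1) (𝟙 _)
  have hr' : Reg (cAt (𝟙 (VG G.1))) (φAt (𝟙 (VG G.1))) := hr
  have hd' : qf (cAt (𝟙 (VG G.1))) ∣ subF (kmap (VGk G.1).hom) G.1 (φAt (𝟙 (VG G.1))) := hd
  obtain ⟨C, f, L, x, hC⟩ := exists_isCon (cAt (𝟙 (VG G.1)))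
  have hb : ⨆ i, (VG G.1).basicOpen (bpf (cAt (𝟙 (VG G.1))) (φAt (𝟙 (VG G.1))) i) = ⊤ := by
    rw [eq_top_iff]
    refine le_trans (le_of_eq hr'.symm) (iSup_le fun i => ?_)
    unfold regPoly
    rw [Scheme.basicOpen_mul]
    exact inf_le_right.trans (le_iSup (fun i => (VG G.1).basicOpen
      (bpf (cAt (𝟙 (VG G.1))) (φAt (𝟙 (VG G.1))) i)) i.2)
  obtain ⟨μ, hμ, hs⟩ := exists_givenBy (R := k) (f ≫ (VGk G.1).hom) (msec f x (φAt (𝟙 (VG G.1)))) ((hK6 hC _).2 hb)
  obtain ⟨m, hm⟩ := (exists_lift_iff_dvd hK4b (VGk G.1).hom hC _ μ hμ hs G).2 hd'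
  obtain ⟨h1, h2⟩ := hK7b (VGk G.1).hom hC _ hr' μ hμ hs
  have hinj : Function.Injective (LefPen.hypIdeal G).subschemeι.base :=
    (LefPen.hypIdeal G).subschemeι.isClosedEmbedding.injective
  rw [← hm] at h1 h2 hs
  exact ⟨{ C := C
           f := f
           m := m
           m_over := by
             change m ≫ (LefPen.hypIdeal G).subschemeι ≫ CohB1.ProjSpace.toSpec n k = _
             rw [← Category.assoc, hm, hμ]
           L := L
           x := x
           isCon := hC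
           givenBy := hs
           stable := (isStableMapFam_comp_iff f _ _ m _ hinj 0).1 h1
           deg := (isFibDeg_comp_iff f m _ _ 2).1 h2 }⟩

/-! ## Node V5 -/

/-- Stable families of maps restrict to open subschemes of the base. -/
theorem isStableMapFam_pullback {C T C' T' Y : Scheme.{u}} {f : C ⟶ T} {f' : C' ⟶ T'} {i : C' ⟶ C} {g : T' ⟶ T}
    (hP : IsPullback i f' f g) (μ : C ⟶ Y) {e : ℕ}
    (h : StMap.IsStableMapFam f (Fin.elim0 : Fin 0 → (T ⟶ C)) (fun i => i.elim0) μ e) :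
    StMap.IsStableMapFam f' (Fin.elim0 : Fin 0 → (T' ⟶ C')) (fun i => i.elim0) (i ≫ μ) e := by
  obtain ⟨h1, h2, h3, h4⟩ := h
  refine ⟨MorphismProperty.of_isPullback hP h1, MorphismProperty.of_isPullback hP h2,
    MorphismProperty.of_isPullback hP h3, ?_⟩
  intro Ω _ _ t Xt j q hQ
  have h5 := h4 Ω (t ≫ g) Xt (j ≫ i) q (hQ.paste_horiz hP)
  rw [← Category.assoc]
  convert h5 using 1

theorem isFibDeg_pullback {C T C' T' Y : Scheme.{u}} {f : C ⟶ T} {f' : C' ⟶ T'} {i : C' ⟶ C} {g : T' ⟶ T}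
    (hP : IsPullback i f' f g) (μ : C ⟶ Y) (L : Y.Modules) {e : ℤ} (h : StMap.IsFibDeg f μ L e) :
    StMap.IsFibDeg f' (i ≫ μ) L e := by
  intro Ω _ _ t Xt j q hQ
  have h5 := h Ω (t ≫ g) Xt (j ≫ i) q (hQ.paste_horiz hP)
  rw [Category.assoc] at h5
  exact h5

/-- **Node V5**. -/
theorem exists_datum_nhds (hD3 : D3Stmt k n) (A : (Mst G).obj) (t : A.obj.base.left) :
    ∃ (A' : (Mst G).obj) (h : A' ⟶ A) (t' : A'.obj.base.left), IsOpenImmersion ((Mst G).p.map h).left ∧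
      ((Mst G).p.map h).left t' = t ∧ Nonempty (Datum A'.obj) := by
  have hinj : Function.Injective (LefPen.hypIdeal G).subschemeι.base :=
    (LefPen.hypIdeal G).subschemeι.isClosedEmbedding.injective
  have hsect : A.obj.sect = (Fin.elim0 : Fin 0 → (A.obj.base.left ⟶ A.obj.C)) := funext fun a => a.elim0
  have hst : StMap.IsStableMapFam A.obj.f (Fin.elim0 : Fin 0 → (A.obj.base.left ⟶ A.obj.C)) (fun i => i.elim0)
      A.obj.map 0 := by
    have h := A.property.1
    convert h using 1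
  have hμ : (A.obj.map ≫ (LefPen.hypIdeal G).subschemeι) ≫ CohB1.ProjSpace.toSpec n k =
      A.obj.f ≫ A.obj.base.hom := by
    rw [← A.obj.map_over, Category.assoc]
    rfl
  obtain ⟨W, htW, c, φ, L, x, hC, hr, hs⟩ := hD3 A.obj.base.hom A.obj.f
    (A.obj.map ≫ (LefPen.hypIdeal G).subschemeι) hμ
    ((isStableMapFam_comp_iff A.obj.f _ _ _ _ hinj 0).2 hst) ((isFibDeg_comp_iff A.obj.f _ _ _ 2).2 A.property.2) t
  have hP : IsPullback (A.obj.f ⁻¹ᵁ W).ι (A.obj.f ∣_ W) A.obj.f W.ι := (isPullback_morphismRestrict A.obj.f W).flip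
  let B : Fam G :=
    { base := Over.mk (W.ι ≫ A.obj.base.hom)
      C := A.obj.f ⁻¹ᵁ W
      f := A.obj.f ∣_ W
      sect := Fin.elim0
      sect_f := fun i => i.elim0
      map := (A.obj.f ⁻¹ᵁ W).ι ≫ A.obj.map
      map_over := by
        change ((A.obj.f ⁻¹ᵁ W).ι ≫ A.obj.map) ≫ (hypOver G).hom = (A.obj.f ∣_ W) ≫ W.ι ≫ A.obj.base.hom
        rw [Category.assoc, A.obj.map_over, ← Category.assoc, hP.w, Category.assoc] }
  have hB : StMap.IsStableMapFam B.f B.sect B.sect_f B.map 0 ∧ StMap.IsFibDeg B.f B.map (hypO1 G) 2 :=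
    ⟨isStableMapFam_pullback hP _ hst, isFibDeg_pullback hP _ _ A.property.2⟩
  let A' : (Mst G).obj := ⟨B, hB⟩
  let h0 : B ⟶ A.obj :=
    { hom :=
        { base := Over.homMk W.ι rfl
          top := (A.obj.f ⁻¹ᵁ W).ι
          cart := hP
          w_sect := fun i => i.elim0 }
      w_map := rfl }
  refine ⟨A', ⟨h0⟩, ⟨t, htW⟩, ?_, rfl, ⟨?_⟩⟩
  · change IsOpenImmersion W.ι
    infer_instance
  · exact
      { c := c
        φ := φ
        L := L
        x := x
        isCon := hC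
        givenBy := by
          change GivenBy (((A.obj.f ⁻¹ᵁ W).ι ≫ A.obj.map) ≫ (LefPen.hypIdeal G).subschemeι) L _
          rw [Category.assoc]
          exact hs }

end K414.StUniv
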